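/-
Certificate data of a coset enumeration.
-/
import Cfsg.Agent.Lib.CosetEnum.Basic

set_option autoImplicit false
set_option maxRecDepth 1000000

namespace CfsgLib.CosetEnum.ONMB

open CfsgLib.CosetEnum

/-- The packed facts. -/
noncomputable def facts : Tree :=
  (.leaf (nat_lit 0x600007000007000051000060000410000500003000004000020000030000110000200000100001000000))

/-- The parents of the cosets. -/
noncomputable def par : Tree :=
  (.leaf (nat_lit 0x51000041000030000020000011000001000000000000))

/-- The packed words. -/
noncomputable def words : Tree :=
  (.node (.node (.node (.leaf (nat_lit 0x2)) (.leaf (nat_lit 0x1010101008))) (.leaf (nat_lit 0x11002))) (.node (.leaf (nat_lit 0x10101010008)) (.leaf (nat_lit 0x0))))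

/-- The certificate. -/
noncomputable def data : Data := ⟨2, facts, par, words, 0, 5⟩

/-- Representatives. -/
noncomputable def rep : Tree :=
  (.leaf (nat_lit 0x700006000050000400003000020000100000))

/-- The rows of the table. -/
noncomputable def tab : Tree :=
  (.leaf (nat_lit 0x5000060000400007000070000300006000020000100005000000000400003000000000200001))

/-- The table. -/
noncomputable def table : Table := ⟨8, rep, tab, .leaf 0⟩

/-- The relators. -/
noncomputable def rels : List (List ℕ) := [[0, 0], [0, 1, 0, 1, 0, 1, 0, 1], [1, 1]]

/-- The words generating the subgroup. -/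
noncomputable def hw : List (List ℕ) := []

/-- The origin of the words. -/
noncomputable def rots : List (ℕ × ℕ) := [(0, 0), (1, 0), (2, 0), (4, 0), (1, 1)]

/-- The generators. -/
noncomputable def sel : List ℕ := [0, 1]

end CfsgLib.CosetEnum.ONMB
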