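/-
Certificate data of a coset enumeration.
-/
import Cfsg.Agent.Lib.CosetEnum.ONMB.Data

set_option autoImplicit false
set_option maxRecDepth 1000000

namespace CfsgLib.CosetEnum.ONMB

open CfsgLib.CosetEnum

/-- Justifications of the facts from 0. -/
noncomputable def just0 : List ℕ := [(nat_lit 0xfff), (nat_lit 0xfff), (nat_lit 0xfff), (nat_lit 0xfff), (nat_lit 0xfff), (nat_lit 0xfff), (nat_lit 0xfff), (nat_lit 0x400002000000000100003000050000600600100005001004)]

theorem just0_ok : data.okChunk 0 just0 = true := by decide +kernel

theorem just0_len : just0.length = 8 := by decide +kernel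

end CfsgLib.CosetEnum.ONMB
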